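import Groth.Agent.S13986
import Groth.Agent.L16.CohClosedPush
import Groth.Agent.L16.Devissage
import Groth.Agent.L16.Rees.RelVanish
import Groth.Agent.L21.Mod.Locality
import Groth.Agent.L22.Nakai.Main
import Mathlib.Topology.Sober

/-!
# Coherent modules with prescribed support
-/

set_option autoImplicit false
set_option linter.style.haveILetI false
universe u
set_option linter.unusedSectionVars false

open CategoryTheory CategoryTheory.Limits AlgebraicGeometry TopologicalSpace

noncomputable section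

namespace Groth.L16.CohGab

variable {X : Scheme.{u}}

/-- A Serre class on coherent modules. -/
abbrev IsSerreCoh (P : ObjectProperty X.Modules) : Prop :=
  ∀ S : ShortComplex X.Modules, S.ShortExact → Coh.IsCoh S.X₁ → Coh.IsCoh S.X₂ →
    Coh.IsCoh S.X₃ → (P S.X₂ ↔ P S.X₁ ∧ P S.X₃)

variable [IsNoetherian X]

theorem exists_coh_support (Z : Closeds X) :
    ∃ F : X.Modules, Coh.IsCoh F ∧ CohB1.support F = (Z : Set X) := by
  let I := Scheme.IdealSheafData.vanishingIdeal Z
  let ι := I.subschemeι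
  haveI : IsLocallyNoetherian I.subscheme := LocallyOfFiniteType.isLocallyNoetherian ι
  have hrange : Set.range ι = (Z : Set X) := by
    rw [I.range_subschemeι]
    simp [I]
  refine ⟨(Coh.push ι).obj (Coh.structureModule I.subscheme),
    Groth.L16.CohClosedPush.isCoh_push ι (Rees.RelVanish.isCoh_structureModule _),
    subset_antisymm ((Groth.L16.CohClosedPush.support_push_subset ι _).trans hrange.le) ?_⟩
  rw [← hrange]
  rintro _ ⟨z, rfl⟩ h
  haveI : Subsingleton ((Coh.structureModule I.subscheme).presheaf.stalk z) :=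
    @Function.Surjective.subsingleton _ _ _ h
      (Groth.L17.ClosedPush.c₀_bijective ι (Coh.structureModule I.subscheme) z).2
  exact one_ne_zero ((Groth.L21.RR.bijective_smul_one z).1 (a₁ := (1 : I.subscheme.presheaf.stalk z)) (a₂ := 0)
    (Subsingleton.elim _ _))

theorem serre_support_subset (Z : Set X) : IsSerreCoh fun M : X.Modules => CohB1.support M ⊆ Z :=
  fun S hS _ _ _ => by
    show CohB1.support S.X₂ ⊆ Z ↔ _
    rw [Groth.L21.Mod.support_of_shortExact hS]; exact Set.union_subset_iff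

theorem serre_not_mem_support (x : X) : IsSerreCoh fun M : X.Modules => x ∉ CohB1.support M :=
  fun S hS _ _ _ => by
    show x ∉ CohB1.support S.X₂ ↔ _
    rw [Groth.L21.Mod.support_of_shortExact hS]; exact not_or

theorem of_support_subset {Q : ObjectProperty X.Modules} (hQ : IsSerreCoh Q) {F M : X.Modules}
    (hF : Coh.IsCoh F) (hM : Coh.IsCoh M) (h : Q F) (hs : CohB1.support M ⊆ CohB1.support F) : Q M :=
  (Groth.Agent.S13986.result X F M hF hM).2 hs Q h hQ

theorem support_biprod (F G : X.Modules) :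
    CohB1.support (F ⊞ G) = CohB1.support F ∪ CohB1.support G :=
  Groth.L21.Mod.support_of_shortExact (ShortComplex.Splitting.ofHasBinaryBiproduct F G).shortExact

theorem isClosed_support {M : X.Modules} (hM : Coh.IsCoh M) : IsClosed (CohB1.support M) :=
  Groth.L16.CohSupport.isClosed_support M hM.2

theorem closeds_bij :
    (∀ Z : Closeds X, IsSerreCoh (fun M : X.Modules => CohB1.support M ⊆ (Z : Set X)) ∧
      ∃ F : X.Modules, Coh.IsCoh F ∧ CohB1.support F ⊆ (Z : Set X) ∧
        ∀ Q : ObjectProperty X.Modules, IsSerreCoh Q → Q F →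
          ∀ M : X.Modules, Coh.IsCoh M → CohB1.support M ⊆ (Z : Set X) → Q M) ∧
    ∀ P : ObjectProperty X.Modules, IsSerreCoh P →
      (∃ F : X.Modules, Coh.IsCoh F ∧ P F ∧
        ∀ Q : ObjectProperty X.Modules, IsSerreCoh Q → Q F → ∀ M : X.Modules, Coh.IsCoh M → P M → Q M) →
      ∃! Z : Closeds X, ∀ M : X.Modules, Coh.IsCoh M → (P M ↔ CohB1.support M ⊆ (Z : Set X)) := by
  refine ⟨fun Z => ⟨serre_support_subset _, ?_⟩, fun P hP ⟨F, hF, hPF, hgen⟩ => ?_⟩
  · obtain ⟨F, hF, hs⟩ := exists_coh_support Z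
    exact ⟨F, hF, hs.le, fun Q hQ hQF M hM hMZ => of_support_subset hQ hF hM hQF (hMZ.trans hs.ge)⟩
  · refine ⟨⟨CohB1.support F, isClosed_support hF⟩, fun M hM => ⟨hgen _ (serre_support_subset _) subset_rfl M hM,
      of_support_subset hP hF hM hPF⟩, fun Z' hZ' => ?_⟩
    obtain ⟨G, hG, hs⟩ := exists_coh_support Z'
    refine SetLike.coe_injective (subset_antisymm ?_ ((hZ' F hF).1 hPF))
    rw [← hs]
    exact hgen _ (serre_support_subset _) subset_rfl G hG ((hZ' G hG).2 hs.le)

theorem isPreirreducible_iff (Z : Closeds X) :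
    IsPreirreducible (Z : Set X) ↔
    ∀ J₁ J₂ : ObjectProperty X.Modules, IsSerreCoh J₁ → IsSerreCoh J₂ →
      (∀ M : X.Modules, Coh.IsCoh M → J₁ M → CohB1.support M ⊆ (Z : Set X)) →
      (∀ M : X.Modules, Coh.IsCoh M → J₂ M → CohB1.support M ⊆ (Z : Set X)) →
      (∀ Q : ObjectProperty X.Modules, IsSerreCoh Q →
        (∀ M : X.Modules, Coh.IsCoh M → J₁ M → Q M) → (∀ M : X.Modules, Coh.IsCoh M → J₂ M → Q M) →
        ∀ M : X.Modules, Coh.IsCoh M → CohB1.support M ⊆ (Z : Set X) → Q M) →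
      (∀ M : X.Modules, Coh.IsCoh M → CohB1.support M ⊆ (Z : Set X) → J₁ M) ∨
        (∀ M : X.Modules, Coh.IsCoh M → CohB1.support M ⊆ (Z : Set X) → J₂ M) := by
  obtain ⟨F, hF, hFZ⟩ := exists_coh_support Z
  constructor
  · intro hirr J₁ J₂ h1 h2 _ _ hgen
    by_contra hne
    rw [not_or] at hne
    rcases (Z : Set X).eq_empty_or_nonempty with hZ | hZ
    · refine (hgen (fun _ => False) (fun S _ _ _ _ => by simp) (fun M hM hJ => hne.1 ?_) (fun M hM hJ => hne.2 ?_)
        F hF hFZ.le).elim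
      · exact fun N hN hs => of_support_subset h1 hM hN hJ (hs.trans (hZ ▸ Set.empty_subset _))
      · exact fun N hN hs => of_support_subset h2 hM hN hJ (hs.trans (hZ ▸ Set.empty_subset _))
    · have hirr' : IsIrreducible (Z : Set X) := ⟨hZ, hirr⟩
      have hη := hirr'.isGenericPoint_genericPoint Z.isClosed
      have key : ∀ {J : ObjectProperty X.Modules}, IsSerreCoh J →
          ¬(∀ M : X.Modules, Coh.IsCoh M → CohB1.support M ⊆ (Z : Set X) → J M) →
          ∀ M : X.Modules, Coh.IsCoh M → J M → hirr'.genericPoint ∉ CohB1.support M := by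
        intro J hJ hne M hM hJM hmem
        refine hne fun N hN hs => of_support_subset hJ hM hN hJM (hs.trans ?_)
        exact hη.def.symm.subset.trans ((isClosed_support hM).closure_subset_iff.2 (Set.singleton_subset_iff.2 hmem))
      exact hgen _ (serre_not_mem_support hirr'.genericPoint) (key h1 hne.1) (key h2 hne.2) F hF hFZ.le
        (hFZ.ge hη.mem)
  · intro h
    rw [isPreirreducible_iff_isClosed_union_isClosed]
    intro z₁ z₂ hz₁ hz₂ hsub
    obtain ⟨F₁, hF₁, hs₁⟩ := exists_coh_support ⟨(Z : Set X) ∩ z₁, Z.isClosed.inter hz₁⟩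
    obtain ⟨F₂, hF₂, hs₂⟩ := exists_coh_support ⟨(Z : Set X) ∩ z₂, Z.isClosed.inter hz₂⟩
    have hgen : ∀ Q : ObjectProperty X.Modules, IsSerreCoh Q →
        (∀ M : X.Modules, Coh.IsCoh M → CohB1.support M ⊆ (Z : Set X) ∩ z₁ → Q M) →
        (∀ M : X.Modules, Coh.IsCoh M → CohB1.support M ⊆ (Z : Set X) ∩ z₂ → Q M) →
        ∀ M : X.Modules, Coh.IsCoh M → CohB1.support M ⊆ (Z : Set X) → Q M := fun Q hQ hQ₁ hQ₂ M hM hs => by
      refine of_support_subset hQ (Devissage.isCoh_biprod hF₁ hF₂) hM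
        ((hQ _ (ShortComplex.Splitting.ofHasBinaryBiproduct F₁ F₂).shortExact hF₁
          (Devissage.isCoh_biprod hF₁ hF₂) hF₂).2 ⟨hQ₁ F₁ hF₁ hs₁.le, hQ₂ F₂ hF₂ hs₂.le⟩) ?_
      rw [support_biprod, hs₁, hs₂]
      intro x hx
      exact (hsub (hs hx)).imp (fun h => ⟨hs hx, h⟩) (fun h => ⟨hs hx, h⟩)
    rcases h (fun M => CohB1.support M ⊆ (Z : Set X) ∩ z₁) (fun M => CohB1.support M ⊆ (Z : Set X) ∩ z₂)
      (serre_support_subset _) (serre_support_subset _) (fun M _ hM => hM.trans Set.inter_subset_left)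
      (fun M _ hM => hM.trans Set.inter_subset_left) hgen with h' | h'
    · exact Or.inl fun x hx => (h' F hF hFZ.le (hFZ.ge hx)).2
    · exact Or.inr fun x hx => (h' F hF hFZ.le (hFZ.ge hx)).2

end Groth.L16.CohGab
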