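import Mathlib.CategoryTheory.Localization.CalculusOfFractions

/-!
# A criterion for localization functors
-/

set_option autoImplicit false

open CategoryTheory

universe v v' u u'

namespace Groth.L16.CohGab

variable {C : Type u} [Category.{v} C] {D : Type u'} [Category.{v'} D] (L : C ⥤ D) (W : MorphismProperty C)

/-- An essentially surjective functor on which morphisms are roofs and equalities are witnessed by
`W = L⁻¹(isomorphisms)` is a localization functor. -/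
theorem isLocalization_of_roofs (hW : W = (MorphismProperty.isomorphisms D).inverseImage L) [L.EssSurj]
    (hfull : ∀ ⦃X Y : C⦄ (g : L.obj X ⟶ L.obj Y),
      ∃ (X' : C) (w : X' ⟶ X) (f : X' ⟶ Y), W w ∧ L.map f = L.map w ≫ g)
    (hfaith : ∀ ⦃X Y : C⦄ (f f' : X ⟶ Y), L.map f = L.map f' →
      ∃ (X' : C) (w : X' ⟶ X), W w ∧ w ≫ f = w ≫ f') :
    L.IsLocalization W := by
  have hiso : ∀ ⦃X Y : C⦄ (f : X ⟶ Y), W f → IsIso (L.map f) := by subst hW; exact fun _ _ _ h => h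
  have hcomp : W.IsMultiplicative := by subst hW; infer_instance
  haveI : W.HasRightCalculusOfFractions :=
    { toIsMultiplicative := hcomp
      exists_rightFraction := fun X Y φ => by
        haveI := hiso φ.s φ.hs
        obtain ⟨X', w, g, hw, hg⟩ := hfull (L.map φ.f ≫ inv (L.map φ.s))
        obtain ⟨X'', w', hw', h'⟩ := hfaith (g ≫ φ.s) (w ≫ φ.f) (by simp [hg])
        refine ⟨MorphismProperty.RightFraction.mk (w' ≫ w) (W.comp_mem _ _ hw' hw) (w' ≫ g), ?_⟩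
        simp only [Category.assoc]
        exact h'.symm
      ext := fun X Y Y' f₁ f₂ s hs h => by
        haveI := hiso s hs
        obtain ⟨X', w, hw, h'⟩ := hfaith f₁ f₂ (by
          rw [← cancel_mono (L.map s), ← L.map_comp, h, L.map_comp])
        exact ⟨X', w, hw, h'⟩ }
  have hinv : W.IsInvertedBy L := hiso
  refine ⟨hinv, ?_⟩
  let G := Localization.Construction.lift L hinv
  have hmap : ∀ ⦃A B : C⦄ (h : A ⟶ B), G.map (W.Q.map h) = L.map h := fun A B h =>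
    (Functor.congr_hom (Localization.Construction.fac L hinv) h).trans ((Category.id_comp _).trans (Category.comp_id _))
  haveI : G.EssSurj := ⟨fun d => ⟨W.Q.obj (L.objPreimage d), ⟨L.objObjPreimageIso d⟩⟩⟩
  haveI : G.Full := ⟨fun {A B} g => by
    obtain ⟨X, rfl⟩ : ∃ X, W.Q.obj X = A := ⟨A.as.obj, rfl⟩
    obtain ⟨Y, rfl⟩ : ∃ Y, W.Q.obj Y = B := ⟨B.as.obj, rfl⟩
    obtain ⟨X', w, f, hw, hf⟩ := hfull (show L.obj X ⟶ L.obj Y from g)
    haveI := W.Q_inverts w hw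
    haveI := hiso w hw
    refine ⟨inv (W.Q.map w) ≫ W.Q.map f, ?_⟩
    rw [← cancel_epi (G.map (W.Q.map w)), ← G.map_comp, IsIso.hom_inv_id_assoc, hmap, hmap]
    exact hf⟩
  haveI : G.Faithful := ⟨fun {A B} a b hab => by
    obtain ⟨X, rfl⟩ : ∃ X, W.Q.obj X = A := ⟨A.as.obj, rfl⟩
    obtain ⟨Y, rfl⟩ : ∃ Y, W.Q.obj Y = B := ⟨B.as.obj, rfl⟩
    obtain ⟨φ, rfl⟩ := Localization.exists_rightFraction W.Q W a
    obtain ⟨ψ, rfl⟩ := Localization.exists_rightFraction W.Q W b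
    haveI := hiso φ.s φ.hs
    haveI := hiso ψ.s ψ.hs
    obtain ⟨Z₀, t₁, t₂, ht, he⟩ := hfull (L.map φ.s ≫ inv (L.map ψ.s))
    obtain ⟨Z₁, u, hu, hus⟩ := hfaith (t₁ ≫ φ.s) (t₂ ≫ ψ.s) (by simp [he])
    have hwit : W ((u ≫ t₁) ≫ φ.s) := W.comp_mem _ _ (W.comp_mem _ _ hu ht) φ.hs
    have hs2 : (u ≫ t₁) ≫ φ.s = (u ≫ t₂) ≫ ψ.s := by simpa using hus
    haveI := W.Q_inverts _ hwit
    have e₁ : W.Q.map ((u ≫ t₁) ≫ φ.s) ≫ φ.map W.Q W.Q_inverts = W.Q.map ((u ≫ t₁) ≫ φ.f) := by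
      rw [W.Q.map_comp, W.Q.map_comp _ φ.f, Category.assoc, MorphismProperty.RightFraction.map_s_comp_map]
    have e₂ : W.Q.map ((u ≫ t₁) ≫ φ.s) ≫ ψ.map W.Q W.Q_inverts = W.Q.map ((u ≫ t₂) ≫ ψ.f) := by
      rw [hs2, W.Q.map_comp, W.Q.map_comp _ ψ.f, Category.assoc, MorphismProperty.RightFraction.map_s_comp_map]
    have hL : L.map ((u ≫ t₁) ≫ φ.f) = L.map ((u ≫ t₂) ≫ ψ.f) := by
      rw [← hmap, ← hmap, ← e₁, ← e₂, G.map_comp, G.map_comp, hab]
    obtain ⟨Z₂, z, hz, hzf⟩ := hfaith _ _ hL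
    haveI := W.Q_inverts z hz
    rw [← cancel_epi (W.Q.map ((u ≫ t₁) ≫ φ.s)), e₁, e₂, ← cancel_epi (W.Q.map z), ← W.Q.map_comp,
      ← W.Q.map_comp, hzf]⟩
  exact { }

end Groth.L16.CohGab
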