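import Groth.Agent.L17.Approx.Extend
import Groth.Agent.L17.StalkSpread
import Groth.Agent.L29.DCoh.ExtendOpen
import Groth.Agent.L29.K.KcohLoc
import Groth.Agent.L16.CohGab.LocCrit

/-!
# Coherent modules on an open subscheme as a localization
-/

set_option autoImplicit false
set_option backward.isDefEq.respectTransparency false
set_option backward.isDefEq.respectTransparency.types false
set_option linter.style.haveILetI false

universe u

open CategoryTheory CategoryTheory.Limits AlgebraicGeometry

noncomputable section

namespace Groth.L16.CohGab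

variable {X : Scheme.{u}}

theorem isZero_restrict_iff (M : X.Modules) (U : X.Opens) :
    IsZero ((Scheme.Modules.restrictFunctor U.ι).obj M) ↔ CohB1.support M ⊆ (↑U : Set X)ᶜ := by
  refine ⟨fun h x hx hxU => ?_, fun h => Groth.L17.StalkSpread.isZero_restrict fun y hy hs => h hs hy⟩
  have h1 : (⟨x, hxU⟩ : U.toScheme) ∈ CohB1.support (M.restrict U.ι) := by
    rw [Groth.L21.Mod.support_restrict]; exact hx
  exact (Groth.L21.Mod.mem_support_iff_not_isZero _ _).1 h1 (Functor.map_isZero _ h)

theorem isIso_restrict_iff {M N : X.Modules} (f : M ⟶ N) (U : X.Opens) :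
    IsIso ((Scheme.Modules.restrictFunctor U.ι).map f) ↔
      CohB1.support (kernel f) ⊆ (↑U : Set X)ᶜ ∧ CohB1.support (cokernel f) ⊆ (↑U : Set X)ᶜ := by
  let R := Scheme.Modules.restrictFunctor U.ι
  haveI : PreservesColimitsOfSize.{0, 0} R := (Scheme.Modules.restrictAdjunction U.ι).leftAdjoint_preservesColimits
  rw [← isZero_restrict_iff, ← isZero_restrict_iff]
  constructor
  · intro h
    exact ⟨(isZero_kernel_of_mono (R.map f)).of_iso (PreservesKernel.iso R f),
      (isZero_cokernel_of_epi (R.map f)).of_iso (PreservesCokernel.iso R f)⟩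
  · rintro ⟨h1, h2⟩
    haveI : Mono (R.map f) :=
      Preadditive.mono_of_kernel_zero ((h1.of_iso (PreservesKernel.iso R f).symm).eq_of_src _ _)
    haveI : Epi (R.map f) :=
      Preadditive.epi_of_cokernel_zero ((h2.of_iso (PreservesCokernel.iso R f).symm).eq_of_tgt _ _)
    exact isIso_of_mono_of_epi _

end Groth.L16.CohGab
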