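import Groth.Agent.L16.CohGab.Open
import Groth.Agent.L16.ProjSpace.Twist
import Groth.Agent.L18.Frame
import Groth.Agent.L16.Rees.RelVanish

/-!
# The centre of the category of coherent modules
-/

set_option autoImplicit false
set_option backward.isDefEq.respectTransparency false
set_option backward.isDefEq.respectTransparency.types false
set_option linter.style.haveILetI false

universe u

open CategoryTheory CategoryTheory.Limits AlgebraicGeometry Opposite TopologicalSpace

noncomputable section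

namespace Groth.L16.CohGab

open Groth.L18.Frame (rs ro)

variable {X : Scheme.{u}} [IsNoetherian X]

/-- Morphisms over an open are roofs of morphisms of coherent modules. -/
theorem exists_roof {A B : X.Modules} (hA : Coh.IsCoh A) (hB : Coh.IsCoh B) (U : X.Opens)
    (g : (Scheme.Modules.restrictFunctor U.ι).obj A ⟶ (Scheme.Modules.restrictFunctor U.ι).obj B) :
    ∃ (G : X.Modules) (w : G ⟶ A) (f : G ⟶ B), Coh.IsCoh G ∧
      IsIso ((Scheme.Modules.restrictFunctor U.ι).map w) ∧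
      (Scheme.Modules.restrictFunctor U.ι).map f = (Scheme.Modules.restrictFunctor U.ι).map w ≫ g := by
  let R := Scheme.Modules.restrictFunctor U.ι
  haveI : Coh.IsQCoh A := hA.1
  haveI : Coh.IsQCoh B := hB.1
  haveI : Coh.IsQCoh (A ⊞ B) := (Groth.L17.Approx.isCoh_biprod hA hB).1
  haveI : Coh.IsQCoh (A.restrict U.ι) := Scheme.Modules.isQuasicoherent_restrictFunctor _ A
  let i : A.restrict U.ι ⟶ (A ⊞ B).restrict U.ι := R.map biprod.inl + g ≫ R.map biprod.inr
  have h1 : i ≫ R.map biprod.fst = 𝟙 _ := by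
    rw [Preadditive.add_comp, Category.assoc, ← R.map_comp, ← R.map_comp, biprod.inl_fst, biprod.inr_fst,
      R.map_id, R.map_zero, comp_zero, add_zero]
  have h2 : i ≫ R.map biprod.snd = g := by
    rw [Preadditive.add_comp, Category.assoc, ← R.map_comp, ← R.map_comp, biprod.inl_snd, biprod.inr_snd,
      R.map_id, R.map_zero, zero_add]
    exact Category.comp_id _
  haveI : Mono i := mono_of_mono_fac h1
  obtain ⟨G, j, eG, hj, hq, hft, he⟩ := Groth.L17.Approx.exists_extension U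
    (TopologicalSpace.NoetherianSpace.isCompact _) (A ⊞ B) (A.restrict U.ι)
    (Groth.L16.CohKernel.isFT_restrict U.ι A hA.2) i
  have e1 : R.map (j ≫ biprod.fst) = eG.hom := by
    rw [R.map_comp, ← he, Category.assoc, h1]
    exact Category.comp_id _
  refine ⟨G, j ≫ biprod.fst, j ≫ biprod.snd, ⟨hq, hft⟩, ?_, ?_⟩
  · show IsIso (R.map (j ≫ biprod.fst))
    rw [e1]; infer_instance
  · show R.map (j ≫ biprod.snd) = R.map (j ≫ biprod.fst) ≫ g
    rw [e1, R.map_comp, ← he, Category.assoc, h2]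

/-- The unit section of the structure module. -/
abbrev one (U : X.Opens) : Γ(Coh.structureModule X, U) := (1 : Γ(X, U))

omit [AlgebraicGeometry.IsNoetherian X] in
theorem rs_one {U V : X.Opens} (h : V ≤ U) : rs (Coh.structureModule X) h (one U) = one V :=
  map_one (X.presheaf.map (homOfLE h).op).hom

/-- An endomorphism of the identity of coherent modules multiplies by its value at `1`. -/
theorem app_eq_smul
    (φ : 𝟭 (ObjectProperty.FullSubcategory (fun M : X.Modules => Coh.IsCoh M)) ⟶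
      𝟭 (ObjectProperty.FullSubcategory (fun M : X.Modules => Coh.IsCoh M)))
    (hO : Coh.IsCoh (Coh.structureModule X))
    (M : ObjectProperty.FullSubcategory (fun M : X.Modules => Coh.IsCoh M)) (V : X.Opens)
    (s : Γ(M.obj, V)) :
    (φ.app M).hom.app V s =
      (ro le_top (show Γ(X, ⊤) from (φ.app ⟨_, hO⟩).hom.app ⊤ (one ⊤)) : Γ(X, V)) • s := by
  let R := Scheme.Modules.restrictFunctor V.ι
  let O : X.Modules := Coh.structureModule X
  let φO : O ⟶ O := (φ.app ⟨_, hO⟩).hom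
  let φM : M.obj ⟶ M.obj := (φ.app M).hom
  let h : R.obj O ⟶ R.obj M.obj :=
    (Scheme.Modules.restrictUnitIso V.ι).hom ≫ Groth.L16.homOfSection (R.obj M.obj) (rs M.obj V.ι_image_top.le s)
  have h1 : h.app ⊤ (one (V.ι ''ᵁ ⊤)) = rs M.obj V.ι_image_top.le s := by
    have e : (Scheme.Modules.restrictUnitIso V.ι).hom.app ⊤ (one (X := X) (V.ι ''ᵁ ⊤)) = (1 : Γ(V.toScheme, ⊤)) :=
      map_one (V.ι.appIso ⊤).hom.hom
    show (Groth.L16.homOfSection (R.obj M.obj) _).app ⊤ ((Scheme.Modules.restrictUnitIso V.ι).hom.app ⊤ _) = _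
    rw [e, Groth.L16.homOfSection_app, one_smul]
    exact Groth.L18.Frame.rs_self (R.obj M.obj) le_rfl _
  obtain ⟨G, w, f, hG, hw, hf⟩ := exists_roof hO M.property V h
  have nw : (φ.app ⟨G, hG⟩).hom ≫ w = w ≫ φO := congrArg (fun t => t.hom)
    (φ.naturality (ObjectProperty.homMk w : (⟨G, hG⟩ : ObjectProperty.FullSubcategory _) ⟶ ⟨_, hO⟩)).symm
  have nf : (φ.app ⟨G, hG⟩).hom ≫ f = f ≫ φM := congrArg (fun t => t.hom)
    (φ.naturality (ObjectProperty.homMk f : (⟨G, hG⟩ : ObjectProperty.FullSubcategory _) ⟶ M)).symm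
  have key : h ≫ R.map φM = R.map φO ≫ h := by
    haveI : IsIso (R.map w) := hw
    have hf' : R.map f = R.map w ≫ h := hf
    rw [← cancel_epi (R.map w), ← Category.assoc, ← hf', ← R.map_comp, ← nf, R.map_comp, hf',
      ← Category.assoc, ← R.map_comp, nw, R.map_comp, Category.assoc]
  have h2 : φM.app (V.ι ''ᵁ ⊤) (rs M.obj V.ι_image_top.le s) = h.app ⊤ (φO.app (V.ι ''ᵁ ⊤) (one _)) := by
    have := congr(($key).app ⊤ (one (X := X) (V.ι ''ᵁ ⊤)))
    rw [← h1]
    exact this
  let r : Γ(X, ⊤) := φO.app ⊤ (one ⊤)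
  have h3 : φO.app (V.ι ''ᵁ ⊤) (one _) = (ro le_top r : Γ(X, V.ι ''ᵁ ⊤)) • one _ := by
    rw [← rs_one le_top, Groth.L16.EpiFrames.app_rs]
    rw [rs_one]
    exact (mul_one (show Γ(X, V.ι ''ᵁ ⊤) from ro le_top r)).symm
  have h4 : φM.app (V.ι ''ᵁ ⊤) (rs M.obj V.ι_image_top.le s) =
      (ro le_top r : Γ(X, V.ι ''ᵁ ⊤)) • rs M.obj V.ι_image_top.le s := by
    rw [h2, h3]
    have hl : ∀ (a : Γ(X, V.ι ''ᵁ ⊤)) (m : Γ(O, V.ι ''ᵁ ⊤)),
        (show Γ(M.obj, V.ι ''ᵁ ⊤) from h.app ⊤ (a • m)) = a • (show Γ(M.obj, V.ι ''ᵁ ⊤) from h.app ⊤ m) := fun a m => by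
      have := h.app_smul (show Γ(V.toScheme, ⊤) from a) m
      rw [Groth.L17.Approx.smul_restrict_ι] at this
      exact this.trans (Groth.L17.Approx.smul_restrict_ι M.obj V ⊤ a _)
    exact (hl _ _).trans (congrArg (fun t => (ro le_top r : Γ(X, V.ι ''ᵁ ⊤)) • t) h1)
  have h5 := congrArg (rs M.obj (V.ι_image_top.ge)) h4
  rw [← Groth.L16.EpiFrames.app_rs, Groth.L18.Frame.rs_rs, Groth.L18.Frame.rs_self, Groth.L18.Frame.rs_smul,
    Groth.L18.Frame.ro_ro, Groth.L18.Frame.rs_rs, Groth.L18.Frame.rs_self] at h5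
  exact h5

end Groth.L16.CohGab
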